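import Cfsg.Agent.Lib.Suzuki.Centralizers
import Cfsg.Agent.Lib.Suzuki.AutSylow
import Cfsg.Agent.Lib.RankOne.SzBridge
import Cfsg.Agent.KnownSimple.OutSuzuki.Main

/-!
# The centres of the Sylow 2-subgroups of a Suzuki group
-/

set_option autoImplicit false
set_option linter.style.haveILetI false

namespace Cfsg.Agent.ThreePrime91

open Cfsg.Agent.Suzuki
open scoped Pointwise

universe u

/-- If `Z` and `Z^w` generate, so do `Z` and `Z^(u w n)` for `u`, `n` normalising `Z`. -/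
theorem sup_conj_eq_top {G : Type*} [Group G] {Z : Subgroup G} {g w u n : G}
    (hu : u ∈ Subgroup.normalizer (Z : Set G)) (hn : n ∈ Subgroup.normalizer (Z : Set G))
    (hg : g = u * w * n) (h : Z ⊔ Z.map (MulAut.conj w).toMonoidHom = ⊤) :
    Z ⊔ Z.map (MulAut.conj g).toMonoidHom = ⊤ := by
  have hle : Z ⊔ Z.map (MulAut.conj w).toMonoidHom ≤
      (Z ⊔ Z.map (MulAut.conj g).toMonoidHom).comap (MulAut.conj u).toMonoidHom := by
    refine sup_le (fun z hz => Subgroup.mem_sup_left ((Subgroup.mem_normalizer_iff.1 hu z).1 hz)) ?_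
    intro x hx
    obtain ⟨z, hz, rfl⟩ := Subgroup.mem_map.1 hx
    refine Subgroup.mem_sup_right (Subgroup.mem_map.2 ⟨n⁻¹ * z * n, ?_, ?_⟩)
    · have := (Subgroup.mem_normalizer_iff.1 (inv_mem hn) z).1 hz
      rwa [inv_inv] at this
    · simp only [MulEquiv.coe_toMonoidHom, MulAut.conj_apply, hg]
      group
  rw [h] at hle
  refine (Subgroup.eq_top_iff' _).2 fun x => ?_
  have h1 := hle (Subgroup.mem_top (u⁻¹ * x * u))
  rw [Subgroup.mem_comap, MulEquiv.coe_toMonoidHom, MulAut.conj_apply,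
    show u * (u⁻¹ * x * u) * u⁻¹ = x by group] at h1
  exact h1

section

variable {F : Type u} [Field F] [Fintype F] {m : ℕ}
variable (hF : Fintype.card F = 2 ^ (2 * m + 1))
include hF

theorem ZSub_le_USub : ZSub hF ≤ USub hF := fun _ ⟨b, hb⟩ => ⟨0, b, hb⟩

theorem mem_ZSub (b : F) : U hF 0 b ∈ ZSub hF := ⟨b, rfl⟩

theorem U_ne_one {b : F} (hb : b ≠ 0) : U hF 0 b ≠ 1 := fun h =>
  hb (U_inj hF (h.trans (U_zero hF).symm)).2

/-- The torus permutes the elements of `ZSub`. -/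
theorem T_conj_mem (k : Fˣ) {z : Cfsg.Sz F m} (hz : z ∈ ZSub hF) :
    T hF k * z * (T hF k)⁻¹ ∈ ZSub hF := by
  obtain ⟨b, rfl⟩ := hz
  rw [T_conj_U]
  exact ⟨_, by rw [mul_zero]⟩

/-- The torus is transitive on the non-identity elements of `ZSub`. -/
theorem exists_T_conj {z : Cfsg.Sz F m} (hz : z ∈ ZSub hF) (h1 : z ≠ 1) :
    ∃ k : Fˣ, T hF k * U hF 0 1 * (T hF k)⁻¹ = z := by
  obtain ⟨b, rfl⟩ := hz
  obtain ⟨x, hx : sig m x * x = b⟩ := sigNorm_surjective hF b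
  have hb : b ≠ 0 := fun h => h1 (by rw [h, U_zero])
  have hx0 : x ≠ 0 := fun h => hb (by rw [← hx, h]; simp [sig_zero])
  refine ⟨Units.mk0 x hx0, ?_⟩
  rw [T_conj_U, Units.val_mk0, mul_zero, mul_one, mul_comm x, hx]

/-- The stabiliser of `∞` normalises `ZSub`. -/
theorem stab_normalizes (hm : 1 ≤ m) {g : Cfsg.Sz F m}
    (hg : g • Cfsg.suzukiPointInfinity F = Cfsg.suzukiPointInfinity F) {z : Cfsg.Sz F m}
    (hz : z ∈ ZSub hF) : g * z * g⁻¹ ∈ ZSub hF := by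
  obtain ⟨a, b, k, rfl⟩ := eq_U_T_of_fix hF hm g hg
  obtain ⟨c, hc⟩ := T_conj_mem hF k hz
  rw [show U hF a b * T hF k * z * (U hF a b * T hF k)⁻¹ =
    U hF a b * (T hF k * z * (T hF k)⁻¹) * (U hF a b)⁻¹ by group, hc,
    show U hF a b * U hF 0 c = U hF 0 c * U hF a b by
      rw [U_mul, U_mul, mul_zero, sig_zero, zero_mul, add_comm a, add_comm b], mul_inv_cancel_right]
  exact mem_ZSub hF c

/-- The centralizer of a non-identity element of `ZSub` is `USub`. -/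
theorem centralizer_z (hm : 1 ≤ m) {z : Cfsg.Sz F m} (hz : z ∈ ZSub hF) (h1 : z ≠ 1) :
    Subgroup.centralizer {z} = USub hF := by
  obtain ⟨b, rfl⟩ := hz
  refine le_antisymm (centralizer_U_le hF hm h1) ?_
  rintro _ ⟨c, d, rfl⟩
  rw [Subgroup.mem_centralizer_singleton_iff, U_mul, U_mul, mul_zero, sig_zero, zero_mul,
    add_comm c, add_comm d]

/-- The involutions of `USub` lie in `ZSub`. -/
theorem mem_ZSub_of_sq {x : Cfsg.Sz F m} (hx : x ∈ USub hF) (h2 : x * x = 1) : x ∈ ZSub hF := by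
  obtain ⟨a, b, rfl⟩ := hx
  rw [KnownSimple.OutSz.U_sq, ← U_zero hF] at h2
  have h3 : sig m a * a = 0 := (U_inj hF h2).2
  rcases mul_eq_zero.1 h3 with h | h
  · rw [sig_eq_zero.1 h]; exact mem_ZSub hF b
  · rw [h]; exact mem_ZSub hF b

/-- `ZSub` is the stabiliser of `∞` up to normalisation. -/
theorem mem_normalizer_ZSub (hm : 1 ≤ m) {g : Cfsg.Sz F m} :
    g ∈ Subgroup.normalizer (ZSub hF : Set (Cfsg.Sz F m)) ↔
      g • Cfsg.suzukiPointInfinity F = Cfsg.suzukiPointInfinity F := by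
  constructor
  · intro hg
    obtain ⟨c, hc⟩ := (Subgroup.mem_normalizer_iff.1 hg _).1 (mem_ZSub hF (1 : F))
    have h := TI_U hF hm g _ (ZSub_le_USub hF (mem_ZSub hF (1 : F))) (U_ne_one hF one_ne_zero)
      (by rw [hc]; exact ZSub_le_USub hF (mem_ZSub hF c))
    rwa [normalizer_USub hF hm, MulAction.mem_stabilizer_iff] at h
  · intro hg
    refine Subgroup.mem_normalizer_iff.2 fun z => ⟨stab_normalizes hF hm hg, fun h => ?_⟩
    have := stab_normalizes hF hm (g := g⁻¹) (by rw [inv_smul_eq_iff, hg]) h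
    rwa [inv_inv, show g⁻¹ * (g * z * g⁻¹) * g = z by group] at this

/-- `T k` and `W`. -/
theorem T_conj_W (k : Fˣ) (z : Cfsg.Sz F m) :
    T hF k * (W hF * z * (W hF)⁻¹) * (T hF k)⁻¹ =
      W hF * (T hF k⁻¹ * z * (T hF k⁻¹)⁻¹) * (W hF)⁻¹ := by
  have h := W_mul_T hF k⁻¹
  rw [inv_inv] at h
  calc T hF k * (W hF * z * (W hF)⁻¹) * (T hF k)⁻¹
      = (T hF k * W hF) * z * (T hF k * W hF)⁻¹ := by group
    _ = (W hF * T hF k⁻¹) * z * (W hF * T hF k⁻¹)⁻¹ := by rw [h]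
    _ = _ := by group

/-- The image of `pt 0 1` under `W`. -/
theorem W_pt_one : W hF • pt m (0 : F) 1 = pt m 1 0 := by
  have hfz : fz m (0 : F) 1 ≠ 0 := fun h0 => one_ne_zero (α := F) ((fz_eq_zero hF).1 h0).2
  have h := wel_smul_pt hF hfz
  rw [show fz m (0 : F) 1 = 1 by simp [fz, sig_zero, sig_one], div_one, div_one] at h
  exact h

/-- A subgroup containing `ZSub` and normalised by `W` and the torus contains all conjugates
of `ZSub`. -/
theorem orbit_H {H : Subgroup (Cfsg.Sz F m)} (hZ : ∀ b : F, U hF 0 b ∈ H) (hW : W hF ∈ H)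
    (hT : ∀ k : Fˣ, T hF k ∈ H) {p : Projectivization F (Fin 4 → F)}
    (hp : p ∈ Cfsg.suzukiOvoid F m) : ∃ h ∈ H, h • Cfsg.suzukiPointInfinity F = p := by
  have h00 : ∀ b : F, ∃ h ∈ H, h • Cfsg.suzukiPointInfinity F = pt m 0 b := fun b =>
    ⟨U hF 0 b * W hF, mul_mem (hZ b) hW, by rw [mul_smul, W_smul_inf, U_smul_zero]⟩
  rcases mem_ovoid.1 hp with rfl | ⟨c, d, rfl⟩
  · exact ⟨1, one_mem _, one_smul _ _⟩
  by_cases hc : c = 0
  · rw [hc]; exact h00 d
  obtain ⟨h, hh, e⟩ := h00 1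
  refine ⟨U hF 0 d * T hF (Units.mk0 c hc) * (W hF * h),
    mul_mem (mul_mem (hZ d) (hT _)) (mul_mem hW hh), ?_⟩
  rw [mul_smul, mul_smul, mul_smul, e, W_pt_one, T_smul_pt, U_smul_pt]
  simp [sig_zero]

/-- The centres of the two base Sylow 2-subgroups generate the group. -/
theorem sup_W_eq_top (hm : 1 ≤ m) :
    ZSub hF ⊔ (ZSub hF).map (MulAut.conj (W hF)).toMonoidHom = ⊤ := by
  generalize hK : ZSub hF ⊔ (ZSub hF).map (MulAut.conj (W hF)).toMonoidHom = K
  have h1 : ∀ z ∈ ZSub hF, z ∈ K := fun z hz => hK ▸ Subgroup.mem_sup_left hz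
  have h2 : ∀ z ∈ ZSub hF, W hF * z * (W hF)⁻¹ ∈ K := fun z hz =>
    hK ▸ Subgroup.mem_sup_right (Subgroup.mem_map.2 ⟨z, hz, MulAut.conj_apply _ _⟩)
  have hmemH : ∀ h : Cfsg.Sz F m, (∀ z ∈ ZSub hF, h * z * h⁻¹ ∈ K ∧
      h * (W hF * z * (W hF)⁻¹) * h⁻¹ ∈ K) → h ∈ Subgroup.normalizer (K : Set (Cfsg.Sz F m)) := by
    intro h hh
    have hle : K ≤ K.comap (MulAut.conj h).toMonoidHom := by
      conv_lhs => rw [← hK]
      refine sup_le (fun z hz => (hh z hz).1) ?_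
      intro w hw
      obtain ⟨z, hz, rfl⟩ := Subgroup.mem_map.1 hw
      exact (hh z hz).2
    have heq : K.map (MulAut.conj h).toMonoidHom = K :=
      Subgroup.eq_of_le_of_card_ge (Subgroup.map_le_iff_le_comap.2 hle)
      (Subgroup.card_map_of_injective (MulAut.conj h).injective).ge
    refine Subgroup.mem_normalizer_iff.2 fun z => ⟨fun hz => hle hz, fun hz => ?_⟩
    rw [← heq] at hz
    obtain ⟨w, hw, e⟩ := Subgroup.mem_map.1 hz
    rw [← (MulAut.conj h).injective (show MulAut.conj h w = MulAut.conj h z from e)]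
    exact hw
  have hnc : Subgroup.normalClosure (ZSub hF : Set (Cfsg.Sz F m)) ≤ K := by
    refine (Subgroup.closure_le _).2 fun w hw => ?_
    obtain ⟨z, hz, hzw⟩ := Group.mem_conjugatesOfSet_iff.1 hw
    obtain ⟨c, rfl⟩ := isConj_iff.1 hzw
    obtain ⟨h, hh, e⟩ := orbit_H hF (H := Subgroup.normalizer (K : Set (Cfsg.Sz F m)))
      (fun b => Subgroup.le_normalizer (h1 _ (mem_ZSub hF b)))
      (hmemH _ fun z hz => ⟨h2 z hz, by
        rw [W_inv hF, show W hF * (W hF * z * W hF) * W hF =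
          (W hF * W hF) * z * (W hF * W hF) by group, W_mul_W, one_mul, mul_one]
        exact h1 z hz⟩)
      (fun k => hmemH _ fun z hz => ⟨h1 _ (T_conj_mem hF k hz), by
        rw [T_conj_W]; exact h2 _ (T_conj_mem hF k⁻¹ hz)⟩)
      (smul_mem_ovoid c (inf_mem_ovoid (m := m)))
    have hmem := (Subgroup.mem_normalizer_iff.1 hh _).1
      (h1 _ (stab_normalizes hF hm (g := h⁻¹ * c) (by rw [mul_smul, ← e, inv_smul_smul]) hz))
    rwa [show h * (h⁻¹ * c * z * (h⁻¹ * c)⁻¹) * h⁻¹ = c * z * c⁻¹ by group] at hmem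
  haveI := isSimpleGroup hF hm
  rcases Subgroup.Normal.eq_bot_or_eq_top
      (inferInstance : (Subgroup.normalClosure (ZSub hF : Set (Cfsg.Sz F m))).Normal) with h | h
  · exact absurd ((Subgroup.mem_bot).1 (h ▸ Subgroup.subset_normalClosure (mem_ZSub hF (1 : F))))
      (U_ne_one hF one_ne_zero)
  · exact top_le_iff.1 (h ▸ hnc)

/-- The centres of two Sylow 2-subgroups generate the group. -/
theorem sup_map_eq_top (hm : 1 ≤ m) {g : Cfsg.Sz F m}
    (hg : g ∉ Subgroup.normalizer (ZSub hF : Set (Cfsg.Sz F m))) :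
    ZSub hF ⊔ (ZSub hF).map (MulAut.conj g).toMonoidHom = ⊤ := by
  rw [mem_normalizer_ZSub hF hm] at hg
  obtain ⟨x, y, hxy⟩ := (mem_ovoid.1 (smul_mem_ovoid g (inf_mem_ovoid (m := m)))).resolve_left hg
  refine sup_conj_eq_top (w := W hF) (u := U hF x y) (n := (U hF x y * W hF)⁻¹ * g)
    ((mem_normalizer_ZSub hF hm).2 (U_smul_inf hF x y)) ((mem_normalizer_ZSub hF hm).2 ?_)
    (mul_inv_cancel_left (U hF x y * W hF) g).symm (sup_W_eq_top hF hm)
  rw [mul_smul, hxy, inv_smul_eq_iff, mul_smul, W_smul_inf, U_smul_zero]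

/-- An automorphism of order at most two fixing `ZSub` pointwise is conjugation by an element of
`ZSub`. -/
theorem exists_conj_of_fix (hm : 1 ≤ m) (α : MulAut (Cfsg.Sz F m)) (h2 : α * α = 1)
    (hfix : ∀ z ∈ ZSub hF, α z = z) : ∃ z ∈ ZSub hF, α = MulAut.conj z := by
  obtain ⟨g, τ, rfl⟩ := KnownSimple.OutSz.exists_eq hF hm α
  have h' : ∀ b, g * U hF 0 (τ b) * g⁻¹ = U hF 0 b := fun b => by
    have := hfix _ (mem_ZSub hF b)
    rwa [MulAut.mul_apply, KnownSimple.OutSz.fAut_U, map_zero, MulAut.conj_apply] at this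
  have hg := TI_U hF hm g _ (ZSub_le_USub hF (mem_ZSub hF (τ 1)))
    (U_ne_one hF (by simp)) (by rw [h']; exact ZSub_le_USub hF (mem_ZSub hF (1 : F)))
  rw [normalizer_USub hF hm, MulAction.mem_stabilizer_iff] at hg
  obtain ⟨a, c, k, rfl⟩ := eq_U_T_of_fix hF hm g hg
  have hb : ∀ b, (k : F) * sig m (k : F) * τ b = b := fun b => by
    have h := h' b
    rw [show U hF a c * T hF k * U hF 0 (τ b) * (U hF a c * T hF k)⁻¹ =
      U hF a c * (T hF k * U hF 0 (τ b) * (T hF k)⁻¹) * (U hF a c)⁻¹ by group, T_conj_U,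
      mul_zero, show U hF a c * U hF 0 ((k : F) * sig m (k : F) * τ b) =
        U hF 0 ((k : F) * sig m (k : F) * τ b) * U hF a c by
          rw [U_mul, U_mul, mul_zero, sig_zero, zero_mul, add_comm a, add_comm c],
      mul_inv_cancel_right] at h
    exact (U_inj hF h).2
  have hk : k = 1 := Units.ext (eq_one_of_mul_sig hF k.ne_zero (by simpa using hb 1))
  have hτ : τ = 1 := RingEquiv.ext fun x => by
    simpa [hk, sig_one] using hb x
  subst hk hτ
  rw [T_one, mul_one, map_one, mul_one] at h2 ⊢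
  refine ⟨U hF a c, mem_ZSub_of_sq hF ⟨a, c, rfl⟩ ?_, rfl⟩
  have hc : ∀ w, U hF a c * U hF a c * w = w * (U hF a c * U hF a c) := fun w => by
    have h := congrArg (fun φ : MulAut (Cfsg.Sz F m) => φ w) h2
    simp only [MulAut.mul_apply, MulAut.conj_apply, MulAut.one_apply] at h
    conv_rhs => rw [← h]
    group
  haveI := isSimpleGroup hF hm
  by_contra hne
  have hz : U hF a c * U hF a c ∈ Subgroup.center (Cfsg.Sz F m) :=
    Subgroup.mem_center_iff.2 fun w => (hc w).symm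
  rcases Subgroup.Normal.eq_bot_or_eq_top
      (inferInstance : (Subgroup.center (Cfsg.Sz F m)).Normal) with h | h
  · exact hne ((Subgroup.mem_bot).1 (h ▸ hz))
  · have hcomm := Subgroup.mem_center_iff.1 (h ▸ Subgroup.mem_top (U hF (1 : F) 0)) (W hF)
    have := congrArg (· • Cfsg.suzukiPointInfinity F) hcomm
    simp only [mul_smul, U_smul_inf, W_smul_inf, U_smul_zero] at this
    exact one_ne_zero (α := F) (pt_inj this.symm).1

/-- `ZSub` has `q² + 1` conjugates. -/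
theorem index_normalizer_ZSub (hm : 1 ≤ m) :
    (Subgroup.normalizer (ZSub hF : Set (Cfsg.Sz F m))).index = (2 ^ (2 * m + 1)) ^ 2 + 1 := by
  have heq : Subgroup.normalizer (ZSub hF : Set (Cfsg.Sz F m)) =
      MulAction.stabilizer (Cfsg.Sz F m) (Cfsg.suzukiPointInfinity F) := by
    ext g
    exact mem_normalizer_ZSub hF hm
  have h := Subgroup.index_mul_card (Subgroup.normalizer (ZSub hF : Set (Cfsg.Sz F m)))
  rw [heq, card_stabilizer_inf hF hm, card_Sz hF hm] at h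
  rw [heq]
  refine Nat.eq_of_mul_eq_mul_right (m := (2 ^ (2 * m + 1)) ^ 2 * (2 ^ (2 * m + 1) - 1)) ?_ ?_
  · have h2le : 2 ≤ 2 ^ (2 * m + 1) := Nat.le_self_pow (by omega) 2
    exact Nat.mul_pos (by positivity) (by omega)
  · rw [h]; ring

/-- `USub` is transitive on the other conjugates of `ZSub`. -/
theorem exists_U_eq (hm : 1 ≤ m) {g h : Cfsg.Sz F m}
    (hg : g ∉ Subgroup.normalizer (ZSub hF : Set (Cfsg.Sz F m)))
    (hh : h ∉ Subgroup.normalizer (ZSub hF : Set (Cfsg.Sz F m))) :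
    ∃ u ∈ USub hF, (u * g)⁻¹ * h ∈ Subgroup.normalizer (ZSub hF : Set (Cfsg.Sz F m)) := by
  rw [mem_normalizer_ZSub hF hm] at hg hh
  obtain ⟨x, y, hxy⟩ := (mem_ovoid.1 (smul_mem_ovoid g (inf_mem_ovoid (m := m)))).resolve_left hg
  obtain ⟨c, d, hcd⟩ := (mem_ovoid.1 (smul_mem_ovoid h (inf_mem_ovoid (m := m)))).resolve_left hh
  refine ⟨U hF c d * (U hF x y)⁻¹, mul_mem ⟨c, d, rfl⟩ (inv_mem ⟨x, y, rfl⟩), ?_⟩
  rw [mem_normalizer_ZSub hF hm, mul_smul, hcd, inv_smul_eq_iff, mul_smul, hxy, mul_smul,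
    ← U_smul_zero hF x y, inv_smul_smul, U_smul_zero]

/-- `USub` acts semiregularly on the other conjugates of `ZSub`. -/
theorem eq_one_of_fix_conj (hm : 1 ≤ m) {u g : Cfsg.Sz F m} (hu : u ∈ USub hF)
    (hg : g ∉ Subgroup.normalizer (ZSub hF : Set (Cfsg.Sz F m)))
    (hfix : g⁻¹ * u * g ∈ Subgroup.normalizer (ZSub hF : Set (Cfsg.Sz F m))) : u = 1 := by
  obtain ⟨a, b, rfl⟩ := hu
  rw [mem_normalizer_ZSub hF hm] at hg hfix
  rw [mul_smul, mul_smul, inv_smul_eq_iff] at hfix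
  exact (U_fix hF (smul_mem_ovoid g (inf_mem_ovoid (m := m))) hfix).resolve_left hg

end

/-- Suzuki groups in either model. -/
theorem exists_model {L : Type u} [Group L] (hL : Cfsg.Lie.IsoSuzuki L) :
    ∃ (F : Type) (_ : Field F) (_ : Fintype F) (m : ℕ), 1 ≤ m ∧
      Fintype.card F = 2 ^ (2 * m + 1) ∧ Nonempty (L ≃* Cfsg.Sz F m) := by
  obtain ⟨F, iF, iFin, m, hm, hF, ⟨e⟩⟩ := hL
  exact ⟨F, iF, iFin, m, hm, hF, ⟨e.trans (RankOne.SzBridge.szEquiv hF hm).symm⟩⟩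

end Cfsg.Agent.ThreePrime91
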