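import Cfsg.Agent.ThreePrime72.Free
import Cfsg.Agent.ThreePrime82.Structure
import Cfsg.Agent.ThreePrime91.SzFacts
import Mathlib.GroupTheory.Transfer

/-!
# A moved Suzuki component next to a free strongly closed subgroup

The Sylow `2`-subgroup of the component centralizes `A`, and the component has trivial centre.
-/

set_option autoImplicit false
set_option linter.style.haveILetI false

namespace Cfsg.Agent.ThreePrime91

open Subgroup
open Cfsg.Agent.Suzuki Cfsg.Agent.KnownSimple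

universe u

/-- Further facts on a Sylow `2`-subgroup of a Suzuki group. -/
structure SylExtra {K : Type*} [Group K] (P : Subgroup K) : Prop where
  sq : ∀ x ∈ P, x * x * (x * x) = 1
  comm : ∀ x ∈ P, ∀ y ∈ P, x * y * x⁻¹ * y⁻¹ * (x * y * x⁻¹ * y⁻¹) = 1
  trans : ∀ x ∈ P, ∀ y ∈ P, x * x ≠ 1 → y * y ≠ 1 →
    ∃ t ∈ normalizer (P : Set K), t * x * t⁻¹ * y⁻¹ * (t * x * t⁻¹ * y⁻¹) = 1
  cent : ∀ x ∈ P, x ≠ 1 → x * x = 1 → ∀ g : K, g * x = x * g → g ∈ P
  card : Nat.card ↥P = Nat.card {x : K // x ∈ P ∧ x * x = 1} ^ 2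

theorem sylExtra_sz {F : Type*} [Field F] [Fintype F] {m : ℕ}
    (hF : Fintype.card F = 2 ^ (2 * m + 1)) (hm : 1 ≤ m) (P : Sylow 2 (Cfsg.Sz F m)) :
    SylExtra (P : Subgroup (Cfsg.Sz F m)) := by
  classical
  obtain ⟨h, hh⟩ := SzFacts.sylow_eq_map hF hm P
  rw [hh]
  set c : Cfsg.Sz F m →* Cfsg.Sz F m := (MulAut.conj h).toMonoidHom with hc
  have hcinj : Function.Injective c := (MulAut.conj h).injective
  have hcsurj : Function.Surjective c := (MulAut.conj h).surjective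
  have hU2 : ∀ e : F, U hF 0 e * U hF 0 e = 1 := fun e => by
    rw [OutSz.U_sq, mul_zero, U_zero]
  have hinv : ∀ {a b : F}, U hF a b * U hF a b = 1 → a = 0 :=
    fun he => ThreePrime82.U_involution hF he
  refine ⟨?_, ?_, ?_, ?_, ?_⟩
  · rintro _ ⟨_, ⟨a, b, rfl⟩, rfl⟩
    rw [← map_mul, ← map_mul, OutSz.U_sq, hU2, map_one]
  · rintro _ ⟨_, ⟨a, b, rfl⟩, rfl⟩ _ ⟨_, ⟨d, e, rfl⟩, rfl⟩
    have h1 : U hF a b * U hF d e =
        U hF 0 (sig m a * d + sig m d * a) * (U hF d e * U hF a b) := by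
      rw [U_mul, U_mul, U_mul, sig_zero]
      congr 1
      · ring
      · linear_combination (-(sig m d * a)) * two_eq_zero hF
    rw [← map_inv, ← map_inv, ← map_mul, ← map_mul, ← map_mul, ← map_mul,
      show U hF a b * U hF d e * (U hF a b)⁻¹ * (U hF d e)⁻¹ =
        U hF 0 (sig m a * d + sig m d * a) by rw [h1]; group, hU2, map_one]
  · rintro _ ⟨_, ⟨a, b, rfl⟩, rfl⟩ _ ⟨_, ⟨d, e, rfl⟩, rfl⟩ hx hy
    have ha : a ≠ 0 := fun h0 => hx (by rw [← map_mul, h0, hU2, map_one])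
    have hd : d ≠ 0 := fun h0 => hy (by rw [← map_mul, h0, hU2, map_one])
    set k : Fˣ := Units.mk0 (d * a⁻¹) (mul_ne_zero hd (inv_ne_zero ha)) with hk
    refine ⟨c (T hF k), LocalEven62.mem_normalizer_of_conj_mem ?_, ?_⟩
    · rintro _ ⟨_, ⟨a', b', rfl⟩, rfl⟩
      rw [← map_inv, ← map_mul, ← map_mul, T_conj_U]
      exact ⟨_, ⟨_, _, rfl⟩, rfl⟩
    · have h1 : U hF 0 ((k : F) * sig m (k : F) * b + e) * U hF d e =
          T hF k * U hF a b * (T hF k)⁻¹ := by
        rw [T_conj_U, U_mul, sig_zero, hk, Units.val_mk0, inv_mul_cancel_right₀ ha]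
        congr 1
        · ring
        · linear_combination e * two_eq_zero hF
      rw [← map_inv, ← map_inv, ← map_mul, ← map_mul, ← map_mul, ← map_mul, ← h1,
        mul_inv_cancel_right, hU2, map_one]
  · rintro _ ⟨_, ⟨a, b, rfl⟩, rfl⟩ hx hx2 g hg
    obtain ⟨g', rfl⟩ := hcsurj g
    have ha : a = 0 := hinv (hcinj (by rw [map_mul, hx2, map_one]))
    subst ha
    have h1 : U hF 0 b ≠ 1 := fun h0 => hx (by rw [h0, map_one])
    refine ⟨g', ?_, rfl⟩
    rw [SetLike.mem_coe, ← centralizer_z hF hm (mem_ZSub hF b) h1,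
      mem_centralizer_singleton_iff]
    apply hcinj
    rw [map_mul, map_mul, hg]
  · have e1 : Nat.card {x : Cfsg.Sz F m // x ∈ (USub hF).map c ∧ x * x = 1} = Nat.card F := by
      symm
      refine Nat.card_congr (Equiv.ofBijective (fun b : F =>
        (⟨c (U hF 0 b), ⟨_, ⟨0, b, rfl⟩, rfl⟩, by rw [← map_mul, hU2, map_one]⟩ :
          {x : Cfsg.Sz F m // x ∈ (USub hF).map c ∧ x * x = 1}))
        ⟨fun x y he => (U_inj hF (hcinj (congrArg Subtype.val he))).2, ?_⟩)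
      rintro ⟨_, ⟨_, ⟨a, b, rfl⟩, rfl⟩, hx2⟩
      have ha : a = 0 := hinv (hcinj (by rw [map_mul, hx2, map_one]))
      subst ha
      exact ⟨b, rfl⟩
    rw [e1, card_map_of_injective hcinj, Suzuki.card_USub hF, Nat.card_eq_fintype_card, hF]

/-- The facts hold for every group isomorphic to a Suzuki group. -/
theorem sylExtra_of_isoSuzuki {K : Type u} [Group K] [Finite K] (hK : Cfsg.Lie.IsoSuzuki K)
    (P : Sylow 2 K) : SylExtra (P : Subgroup K) := by
  obtain ⟨F, iF, iT, m, hm, hF, ⟨e⟩⟩ := exists_model hK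
  haveI : Fact (Nat.Prime 2) := ⟨Nat.prime_two⟩
  haveI : Finite (Cfsg.Sz F m) := Finite.of_equiv K e.toEquiv
  have hsurj : Function.Surjective e.toMonoidHom := e.surjective
  set P' : Sylow 2 (Cfsg.Sz F m) := P.mapSurjective hsurj with hP'
  have hX := sylExtra_sz hF hm P'
  have hmem : ∀ x : K, e x ∈ (P' : Subgroup (Cfsg.Sz F m)) ↔ x ∈ (P : Subgroup K) := fun x => by
    rw [hP', Sylow.coe_mapSurjective]
    exact mem_map_iff_mem e.injective
  refine ⟨fun x hx => e.injective ?_, fun x hx y hy => e.injective ?_,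
    fun x hx y hy hx2 hy2 => ?_, fun x hx hx1 hx2 g hg => ?_, ?_⟩
  · simpa using hX.sq _ ((hmem x).2 hx)
  · simpa using hX.comm _ ((hmem x).2 hx) _ ((hmem y).2 hy)
  · obtain ⟨t, ht, ht2⟩ := hX.trans _ ((hmem x).2 hx) _ ((hmem y).2 hy)
      (fun h => hx2 (e.injective (by simpa using h)))
      (fun h => hy2 (e.injective (by simpa using h)))
    refine ⟨e.symm t, mem_normalizer_iff.2 fun z => ?_, e.injective ?_⟩
    · rw [← hmem, ← hmem, map_mul, map_mul, map_inv, e.apply_symm_apply]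
      exact mem_normalizer_iff.1 ht _
    · simpa using ht2
  · refine (hmem g).1 (hX.cent _ ((hmem x).2 hx) (by simpa using hx1) ?_ _ ?_)
    · rw [← map_mul, hx2, map_one]
    · rw [← map_mul, hg, map_mul]
  · rw [Nat.card_congr (e.toEquiv.subtypeEquiv fun x => ?_ :
        {x // x ∈ (P : Subgroup K)} ≃ {y // y ∈ (P' : Subgroup (Cfsg.Sz F m))}),
      Nat.card_congr (e.toEquiv.subtypeEquiv fun x => ?_ :
        {x : K // x ∈ (P : Subgroup K) ∧ x * x = 1} ≃
          {y : Cfsg.Sz F m // y ∈ (P' : Subgroup (Cfsg.Sz F m)) ∧ y * y = 1})]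
    · exact hX.card
    · show _ ↔ e x ∈ _ ∧ e x * e x = 1
      rw [hmem, ← map_mul, MulEquiv.map_eq_one_iff]
    · exact (hmem x).symm

/-- A set of more than `k |N|` elements has a member avoiding `k` translates of `N`. -/
theorem exists_avoid {G : Type*} [Group G] [Finite G] (E N : Subgroup G) {k : ℕ}
    (a b : Fin k → G) (h : k * Nat.card ↥N < Nat.card ↥E) :
    ∃ x ∈ E, ∀ i, a i * x * b i ∉ N := by
  by_contra hne
  push Not at hne
  choose i hi using fun x : ↥E => hne x x.2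
  have := Nat.card_le_card_of_injective
    (fun x : ↥E => (i x, (⟨a (i x) * x * b (i x), hi x⟩ : ↥N))) (fun x y hxy => by
      simp only [Prod.mk.injEq, Subtype.mk.injEq] at hxy
      rw [hxy.1] at hxy
      exact Subtype.ext (mul_left_cancel (mul_right_cancel hxy.2)))
  rw [Nat.card_prod, Nat.card_fin] at this
  omega

/-- A perfect group whose Sylow `2`-subgroup is built as in a Suzuki group over `V × Z(L)` has
trivial centre. -/
theorem center_eq_bot_of_split {L : Type*} [Group L] [Finite L] (hperf : commutator L = ⊤)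
    (E : Sylow 2 L) (V : Subgroup L) (hZE : center L ≤ (E : Subgroup L))
    (hVE : V ≤ (E : Subgroup L))
    (hVc : ∀ v ∈ V, ∀ e ∈ (E : Subgroup L), e * v = v * e) (hVZ : V ⊓ center L = ⊥)
    (hsq : ∀ x ∈ (E : Subgroup L), x * x ∈ V ⊔ center L)
    (hcomm : ∀ x ∈ (E : Subgroup L), ∀ y ∈ (E : Subgroup L),
      x * y * x⁻¹ * y⁻¹ ∈ V ⊔ center L)
    (htrans : ∀ x ∈ (E : Subgroup L), ∀ y ∈ (E : Subgroup L), x ∉ V ⊔ center L →
      y ∉ V ⊔ center L →
      ∃ t : L, (∀ v ∈ V, t * v * t⁻¹ ∈ V) ∧ t * x * t⁻¹ * y⁻¹ ∈ V ⊔ center L)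
    (hbig : 8 * Nat.card ↥(V ⊔ center L) ≤ Nat.card ↥(E : Subgroup L)) :
    center L = ⊥ := by
  classical
  haveI : Fact (Nat.Prime 2) := ⟨Nat.prime_two⟩
  by_contra hne
  -- a subgroup of index two of the centre
  have hpZ : IsPGroup 2 ↥(center L) := E.isPGroup'.to_le hZE
  obtain ⟨n, hn⟩ := IsPGroup.iff_card.1 hpZ
  have hn0 : n ≠ 0 := fun h0 => hne (eq_bot_of_card_eq _ (by rw [hn, h0, pow_zero]))
  obtain ⟨n, rfl⟩ := Nat.exists_eq_succ_of_ne_zero hn0
  obtain ⟨Z1, hZ1⟩ := Sylow.exists_subgroup_card_pow_prime (G := ↥(center L)) 2 (n := n)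
    (by rw [hn]; exact pow_dvd_pow 2 n.le_succ)
  have hidx : Z1.index = 2 := by
    have h1 := Z1.index_mul_card
    rw [hZ1, hn, pow_succ'] at h1
    exact Nat.eq_of_mul_eq_mul_right (by positivity) h1
  set Z1' : Subgroup L := Z1.map (center L).subtype with hZ1'
  have hZ1c : Z1' ≤ center L := map_subtype_le Z1
  haveI : Z1'.Normal := ⟨fun z hz g => by
    rwa [mem_center_iff.1 (hZ1c hz) g, mul_inv_cancel_right]⟩
  set N : Subgroup L := V ⊔ center L with hN
  set N0 : Subgroup L := V ⊔ Z1' with hN0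
  have hN0N : N0 ≤ N := sup_le_sup_left hZ1c V
  have hdec : ∀ {x}, x ∈ N → ∃ v ∈ V, ∃ z ∈ center L, v * z = x :=
    fun hx => mem_sup_of_normal_right.1 hx
  have hNE : N ≤ (E : Subgroup L) := sup_le hVE hZE
  have hNc : ∀ {x}, x ∈ N → ∀ e ∈ (E : Subgroup L), e * x = x * e := by
    intro x hx e he
    obtain ⟨v, hv, z, hz, rfl⟩ := hdec hx
    rw [← mul_assoc, hVc v hv e he, mul_assoc, mem_center_iff.1 hz e, mul_assoc]
  have hiff : ∀ v ∈ V, ∀ z : ↥(center L), v * (z : L) ∈ N0 ↔ z ∈ Z1 := by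
    intro v hv z
    constructor
    · intro h
      obtain ⟨v', hv', z', hz', he⟩ := mem_sup_of_normal_right.1 h
      have h1 : v⁻¹ * v' = (z : L) * z'⁻¹ := by
        rw [eq_mul_inv_iff_mul_eq, mul_assoc, he]; group
      have h2 : v⁻¹ * v' ∈ V ⊓ center L := mem_inf.2 ⟨mul_mem (inv_mem hv) hv', by
        rw [h1]; exact mul_mem z.2 (inv_mem (hZ1c hz'))⟩
      rw [hVZ, mem_bot, h1, mul_inv_eq_one] at h2
      obtain ⟨w, hw, hwz⟩ := hz'
      rwa [show z = w from Subtype.ext (h2.trans hwz.symm)]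
    · exact fun hz => mul_mem (mem_sup_left hv) (mem_sup_right ⟨z, hz, rfl⟩)
  have hN0mul : ∀ {x y}, x ∈ N → y ∈ N → (x * y ∈ N0 ↔ (x ∈ N0 ↔ y ∈ N0)) := by
    intro x y hx hy
    obtain ⟨v, hv, z, hz, rfl⟩ := hdec hx
    obtain ⟨w, hw, z', hz', rfl⟩ := hdec hy
    rw [show v * z * (w * z') = v * w * ((⟨z, hz⟩ : ↥(center L)) * ⟨z', hz'⟩ : ↥(center L)) by
      rw [Subgroup.coe_mul]
      calc v * z * (w * z') = v * (z * w) * z' := by group
        _ = v * (w * z) * z' := by rw [mem_center_iff.1 hz w]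
        _ = _ := by group, hiff _ (mul_mem hv hw), hiff v hv ⟨z, hz⟩, hiff w hw ⟨z', hz'⟩]
    exact mul_mem_iff_of_index_two hidx
  have hconjN0 : ∀ {t : L}, (∀ v ∈ V, t * v * t⁻¹ ∈ V) → ∀ {x}, x ∈ N0 →
      t * x * t⁻¹ ∈ N0 := by
    intro t ht x hx
    obtain ⟨v, hv, z, hz, rfl⟩ := mem_sup_of_normal_right.1 hx
    rw [show t * (v * z) * t⁻¹ = t * v * t⁻¹ * (t * z * t⁻¹) by group]
    exact mul_mem (mem_sup_left (ht v hv))
      (mem_sup_right ((inferInstance : Z1'.Normal).conj_mem z hz t))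
  have hNsq : ∀ {x}, x ∈ N → x * x ∈ N0 := fun hx => (hN0mul hx hx).2 Iff.rfl
  -- all squares lie in `N0`
  have key : ∀ x ∈ (E : Subgroup L), x * x ∈ N0 := by
    by_contra hall
    push Not at hall
    obtain ⟨x0, hx0E, hx0⟩ := hall
    have hx0N : x0 ∉ N := fun h => hx0 (hNsq h)
    have bad : ∀ y ∈ (E : Subgroup L), y ∉ N → y * y ∉ N0 := by
      intro y hy hyN hyy
      obtain ⟨t, ht, hr⟩ := htrans y hy x0 hx0E hyN hx0N
      set r := t * y * t⁻¹ * x0⁻¹ with hr'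
      have h1 : t * (y * y) * t⁻¹ = r * r * (x0 * x0) := by
        have hcr : x0 * r = r * x0 := hNc hr x0 hx0E
        calc t * (y * y) * t⁻¹ = (r * x0) * (r * x0) := by rw [hr']; group
          _ = r * (x0 * r) * x0 := by group
          _ = r * (r * x0) * x0 := by rw [hcr]
          _ = _ := by group
      have h2 := hconjN0 ht hyy
      rw [h1] at h2
      exact hx0 ((mul_mem_cancel_left (hNsq hr)).1 h2)
    -- commutators of elements generating a four-group modulo `N` avoid `N0`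
    have hoff : ∀ x ∈ (E : Subgroup L), ∀ y ∈ (E : Subgroup L), x ∉ N → y ∉ N → x * y ∉ N →
        y * x * y⁻¹ * x⁻¹ ∉ N0 := by
      intro x hx y hy hxN hyN hxyN hc
      refine bad (x * y) (mul_mem hx hy) hxyN ?_
      have hcN := hcomm y hy x hx
      have h1 : x * y * (x * y) = (y * x * y⁻¹ * x⁻¹) * (x * x * (y * y)) := by
        calc x * y * (x * y) = x * (y * x * y⁻¹ * x⁻¹) * (x * y * y) := by group
          _ = (y * x * y⁻¹ * x⁻¹) * x * (x * y * y) := by rw [hNc hcN x hx]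
          _ = _ := by group
      rw [h1]
      exact mul_mem hc ((hN0mul (hsq x hx) (hsq y hy)).2
        (iff_of_false (bad x hx hxN) (bad y hy hyN)))
    have hpos : 0 < Nat.card ↥N := Nat.card_pos
    obtain ⟨y, hy, hy'⟩ := exists_avoid (E : Subgroup L) N (k := 1) ![1] ![1] (by omega)
    obtain ⟨x, hx, hx'⟩ := exists_avoid (E : Subgroup L) N (k := 2) ![1, 1] ![1, y] (by omega)
    obtain ⟨w, hw, hw'⟩ := exists_avoid (E : Subgroup L) N (k := 4) ![1, 1, x, x] ![1, y, 1, y]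
      (by omega)
    have hyN : y ∉ N := by simpa using hy' 0
    have hxN : x ∉ N := by simpa using hx' 0
    have hxyN : x * y ∉ N := by simpa using hx' 1
    have hwN : w ∉ N := by simpa using hw' 0
    have hwyN : w * y ∉ N := by simpa using hw' 1
    have hxwN : x * w ∉ N := by simpa using hw' 2
    have hxwyN : x * w * y ∉ N := by simpa using hw' 3
    refine hoff (x * w) (mul_mem hx hw) y hy hxwN hyN hxwyN ?_
    have hcw := hcomm y hy w hw
    rw [show y * (x * w) * y⁻¹ * (x * w)⁻¹ =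
        (y * x * y⁻¹ * x⁻¹) * (y * w * y⁻¹ * w⁻¹) by
      calc y * (x * w) * y⁻¹ * (x * w)⁻¹
          = (y * x * y⁻¹ * x⁻¹) * (x * (y * w * y⁻¹ * w⁻¹)) * x⁻¹ := by group
        _ = (y * x * y⁻¹ * x⁻¹) * ((y * w * y⁻¹ * w⁻¹) * x) * x⁻¹ := by rw [hNc hcw x hx]
        _ = _ := by group]
    exact (hN0mul (hcomm y hy x hx) hcw).2
      (iff_of_false (hoff x hx y hy hxN hyN hxyN) (hoff w hw y hy hwN hyN hwyN))
  -- transfer onto the group of order two
  obtain ⟨z0, hz0⟩ : ∃ z : ↥(center L), z ∉ Z1 := by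
    by_contra h
    push Not at h
    rw [(eq_top_iff' Z1).2 h, index_top] at hidx
    exact absurd hidx (by norm_num)
  set zE : ↥(E : Subgroup L) := ⟨z0, hZE z0.2⟩ with hzE
  set M0 : Subgroup ↥(E : Subgroup L) := N0.subgroupOf (E : Subgroup L) with hM0
  have hz0M : zE ∉ M0 := fun h => hz0 ((hiff 1 (one_mem V) z0).1 (by
    rw [one_mul]; exact mem_subgroupOf.1 h))
  obtain ⟨M, hM⟩ := Set.Finite.exists_maximal
    (Set.toFinite {M : Subgroup ↥(E : Subgroup L) | M0 ≤ M ∧ zE ∉ M}) ⟨M0, le_rfl, hz0M⟩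
  obtain ⟨⟨hM0M, hzM⟩, hMmax⟩ := hM
  have hsqM : ∀ x : ↥(E : Subgroup L), x * x ∈ M := fun x =>
    hM0M (mem_subgroupOf.2 (key x x.2))
  haveI : M.Normal := ⟨fun x hx g => by
    rw [show g * x * g⁻¹ = g * x * (g * x) * x⁻¹ * (g⁻¹ * g⁻¹) by group]
    exact mul_mem (mul_mem (hsqM _) (inv_mem hx)) (hsqM _)⟩
  have hMidx : M.index = 2 := by
    refine index_eq_two_iff.2 ⟨zE, fun b => ?_⟩
    by_cases hb : b ∈ M
    · exact Or.inr ⟨hb, fun h => hzM ((mul_mem_cancel_left hb).1 h)⟩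
    refine Or.inl ⟨?_, hb⟩
    have hz : zE ∈ M ⊔ zpowers b := by
      by_contra hz
      exact hb (hMmax ⟨hM0M.trans le_sup_left, hz⟩ le_sup_left
        (mem_sup_right (mem_zpowers b)))
    obtain ⟨x, hx, _, ⟨j, rfl⟩, he⟩ := mem_sup_of_normal_left.1 hz
    replace he : x * b ^ j = zE := he
    rcases Int.even_or_odd j with ⟨i, hi⟩ | ⟨i, hi⟩
    · exfalso
      apply hzM
      rw [← he, hi, show b ^ (i + i) = b ^ i * b ^ i from zpow_add b i i]
      exact mul_mem hx (hsqM _)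
    · rw [← he, show b ^ j = b ^ i * b ^ i * b by
        rw [hi, ← zpow_add, ← zpow_add_one]; ring_nf]
      rw [show b * (x * (b ^ i * b ^ i * b)) =
        b * x * b⁻¹ * (b * (b ^ i * b ^ i) * b⁻¹) * (b * b) by group]
      exact mul_mem (mul_mem ((inferInstance : M.Normal).conj_mem x hx b)
        ((inferInstance : M.Normal).conj_mem _ (hsqM _) b)) (hsqM b)
  let ψ : ↥(E : Subgroup L) →* Multiplicative (ZMod 2) :=
    MonoidHom.mk' (fun x => if x ∈ M then 1 else Multiplicative.ofAdd 1) fun x y => by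
      have := mul_mem_iff_of_index_two (a := x) (b := y) hMidx
      by_cases hx : x ∈ M <;> by_cases hy : y ∈ M <;> simp [hx, hy, this, ← ofAdd_add, show (1 : ZMod 2) + 1 = 0 from rfl]
  have hτ : MonoidHom.transfer ψ = 1 := by
    rw [← MonoidHom.ker_eq_top_iff, eq_top_iff, ← hperf]
    exact Abelianization.commutator_subset_ker _
  have hkey : ∀ (k : ℕ) (g₀ : L), g₀⁻¹ * (z0 : L) ^ k * g₀ ∈ (E : Subgroup L) →
      g₀⁻¹ * (z0 : L) ^ k * g₀ = (z0 : L) ^ k := fun k g₀ _ => by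
    rw [mul_assoc, ← mem_center_iff.1 (pow_mem z0.2 k) g₀, inv_mul_cancel_left]
  have hval := MonoidHom.transfer_eq_pow ψ (z0 : L) hkey
  rw [hτ, MonoidHom.one_apply] at hval
  obtain ⟨j, hj⟩ : Odd (E : Subgroup L).index := Nat.not_even_iff_odd.1 fun h =>
    E.not_dvd_index (even_iff_two_dvd.1 h)
  have hpow : (⟨(z0 : L) ^ (E : Subgroup L).index, MonoidHom.transfer_eq_pow_aux (z0 : L) hkey⟩ :
      ↥(E : Subgroup L)) = (zE * zE) ^ j * zE := by
    apply Subtype.ext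
    show (z0 : L) ^ (E : Subgroup L).index = ((z0 : L) * z0) ^ j * z0
    rw [hj, pow_succ, pow_mul, pow_two]
  rw [hpow, map_mul, map_pow] at hval
  have h1 : ψ (zE * zE) = 1 := if_pos (hsqM zE)
  have h2 : ψ zE = Multiplicative.ofAdd 1 := if_neg hzM
  rw [h1, one_pow, one_mul, h2] at hval
  exact one_ne_zero (α := ZMod 2) (congrArg Multiplicative.toAdd hval.symm)

/-- The Sylow `2`-subgroup of a moved component centralizes a free strongly closed subgroup, and
the component has trivial centre. -/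
theorem moved_free {H : Type u} [Group H] [Finite H] (T : Sylow 2 H) (A : Subgroup H)
    (h : ThreePrime72.KHyp T A) {L : Subgroup H} (hL : ThreePrime72.Moved A L)
    (hF : ThreePrime72.FreeOn A) :
    center ↥L = ⊥ ∧ ∀ p ∈ L, p ∈ (T : Subgroup H) → p ∈ centralizer (A : Set H) := by
  classical
  obtain ⟨hK, hmov⟩ := hL
  haveI : Fact (Nat.Prime 2) := ⟨Nat.prime_two⟩
  haveI : IsSimpleGroup (↥L ⧸ center ↥L) := hK.2.2
  have hSz : Cfsg.Lie.IsoSuzuki (↥L ⧸ center ↥L) := by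
    refine h.sec L (center ↥L) inferInstance ?_
    by_contra hc
    push Not at hc
    haveI : Group.IsSolvable (↥L ⧸ center ↥L) := Group.isSolvable_of_comm hc
    haveI : Group.IsSolvable (center ↥L) :=
      Group.isSolvable_of_comm fun a b => Subtype.ext (mem_center_iff.1 b.2 a)
    exact Components.component_not_isSolvable hK
      (Group.isSolvable_of_ker_le_range (center ↥L).subtype (QuotientGroup.mk' (center ↥L))
        (by simp))
  obtain ⟨hl, V, f, hhL, -, hhA, hVle, -, hf3, hcardV, hVC, hdec, hhV, -, hVtrans, P, hP, himg⟩ :=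
    ThreePrime82.component_torus h.core T h.sc h.elem hK hSz hmov
  set π := QuotientGroup.mk' (center ↥L) with hπ
  have hX := sylExtra_of_isoSuzuki hSz P
  have hSyl := ThreePrime82.sylData_of_isoSuzuki hSz
  have hkerπ : π.ker = center ↥L := QuotientGroup.ker_mk' _
  have hker : ∀ x : ↥L, π x = 1 ↔ x ∈ center ↥L := fun x => QuotientGroup.eq_one_iff x
  have hcA : ∀ x ∈ A, ∀ y ∈ A, x * y = y * x := fun x hx y hy =>
    congrArg Subtype.val (h.elem.1.is_comm.comm ⟨x, hx⟩ ⟨y, hy⟩)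
  -- `T ⊓ L` in `L`
  have hQ := LocalEven62.IsSyl.inf_subnormal T hK.1
  set Q : Sylow 2 ↥L := hQ.toSylow with hQdef
  have hmemQ : ∀ x : ↥L, x ∈ (Q : Subgroup ↥L) ↔ (x : H) ∈ (T : Subgroup H) := fun x => by
    rw [hQdef, LocalEven62.IsSyl.coe_toSylow, mem_subgroupOf, mem_inf]
    exact and_iff_left x.2
  have hQP : ∀ x : ↥L, x ∈ (Q : Subgroup ↥L) ↔ π x ∈ (P : Subgroup (↥L ⧸ center ↥L)) :=
    fun x => (hmemQ x).trans (hP x).symm
  set V0 : Subgroup ↥L := V.subgroupOf L with hV0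
  have hV0Q : V0 ≤ (Q : Subgroup ↥L) := fun x hx =>
    (hmemQ x).2 (h.sc.1 (hVle (mem_subgroupOf.1 hx)).1)
  have hZQ : center ↥L ≤ (Q : Subgroup ↥L) := fun x hx =>
    (hQP x).2 (by rw [(hker x).2 hx]; exact one_mem _)
  have hVZ : V0 ⊓ center ↥L = ⊥ := by
    rw [eq_bot_iff]
    rintro x ⟨hx, hxc⟩
    have h1 : (x : H) ∈ V ⊓ centralizer (L : Set H) := ⟨hx, mem_centralizer_iff.2 fun g hg =>
      congrArg Subtype.val (mem_center_iff.1 hxc ⟨g, hg⟩)⟩
    rw [hVC, mem_bot] at h1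
    exact mem_bot.2 (Subtype.ext h1)
  set N : Subgroup ↥L := V0 ⊔ center ↥L with hN
  have hNiff : ∀ x ∈ (Q : Subgroup ↥L), x ∈ N ↔ π x * π x = 1 := by
    intro x hx
    constructor
    · intro hxN
      obtain ⟨v, hv, z, hz, rfl⟩ := mem_sup_of_normal_right.1 hxN
      rw [map_mul, (hker z).2 hz, mul_one]
      exact ((himg _).1 ⟨v, hv, rfl⟩).2
    · intro h2
      obtain ⟨v, hv, he⟩ := (himg (π x)).2 ⟨(hQP x).1 hx, h2⟩
      have : v⁻¹ * x ∈ center ↥L := (hker _).1 (by rw [map_mul, map_inv, he, inv_mul_cancel])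
      simpa using mul_mem (mem_sup_left hv : v ∈ N) (mem_sup_right this : v⁻¹ * x ∈ N)
  -- an element of `L` centralizing `V` centralizes `A`
  have hcentA : ∀ x : ↥L, (∀ v ∈ V, v * (x : H) = (x : H) * v) →
      (x : H) ∈ centralizer (A : Set H) := by
    intro x hx
    refine mem_centralizer_iff.2 fun a ha => ?_
    obtain ⟨v, hv, r, hr, rfl⟩ := hdec a ha
    rw [mul_assoc, ← mem_centralizer_iff.1 hr.2 (x : H) x.2, ← mul_assoc, hx v hv, mul_assoc]
  have hNcent : ∀ x ∈ N, (x : H) ∈ centralizer (A : Set H) := by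
    intro x hx
    obtain ⟨w, hw, z, hz, rfl⟩ := mem_sup_of_normal_right.1 hx
    refine mul_mem (mem_centralizer_iff.2 fun a ha => hcA a ha _ (hVle hw).1)
      (hcentA z fun v hv => ?_)
    exact congrArg Subtype.val (mem_center_iff.1 hz ⟨v, (hVle hv).2⟩)
  -- lifts of elements normalizing `P`
  have hnA : ∀ t : ↥L, π t ∈ normalizer ((P : Subgroup (↥L ⧸ center ↥L)) : Set _) →
      (t : H) ∈ normalizer (A : Set H) := fun t ht =>
    LocalEven62.mem_normalizer_of_conj_mem fun a ha => by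
      obtain ⟨-, k, -, -, -, hconj, -⟩ :=
        ThreePrime82.component_data h.core T h.sc h.elem hK hSz hP ha
      exact hconj t ht
  have hnQ : ∀ t : ↥L, π t ∈ normalizer ((P : Subgroup (↥L ⧸ center ↥L)) : Set _) →
      ∀ x : ↥L, x ∈ (Q : Subgroup ↥L) ↔ t * x * t⁻¹ ∈ (Q : Subgroup ↥L) := fun t ht x => by
    rw [hQP, hQP, map_mul, map_mul, map_inv]
    exact mem_normalizer_iff.1 ht _
  have hQA : ∀ x ∈ (Q : Subgroup ↥L), (x : H) ∈ normalizer (A : Set H) := fun x hx =>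
    LocalEven62.mem_normalizer_of_conj_mem fun a ha => h.sc.2 a ha _
      (mul_mem (mul_mem ((hmemQ x).1 hx) (h.sc.1 ha)) (inv_mem ((hmemQ x).1 hx)))
  have hq : Nat.card {y : ↥L ⧸ center ↥L // y ∈ (P : Subgroup (↥L ⧸ center ↥L)) ∧ y * y = 1}
      = 2 ^ f := by
    rw [← hcardV, ← Nat.card_congr (subgroupOfEquivOfLe (hVle.trans inf_le_right)).toEquiv,
      ← hV0, ThreePrime72.card_eq_map_mul π V0, hkerπ, hVZ, card_bot, mul_one]
    exact Nat.card_congr (Equiv.subtypeEquivRight fun y => (himg y).symm)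
  have hcardQ : Nat.card ↥(Q : Subgroup ↥L) = (2 ^ f) ^ 2 * Nat.card ↥(center ↥L) := by
    have hmap : (Q : Subgroup ↥L).map π = (P : Subgroup (↥L ⧸ center ↥L)) := by
      ext y
      constructor
      · rintro ⟨x, hx, rfl⟩
        exact (hQP x).1 hx
      · intro hy
        obtain ⟨x, rfl⟩ := QuotientGroup.mk'_surjective (center ↥L) y
        exact ⟨x, (hQP x).2 hy, rfl⟩
    rw [ThreePrime72.card_eq_map_mul π (Q : Subgroup ↥L), hkerπ, inf_eq_right.2 hZQ, hmap,
      hX.card, hq]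
  have hcardN : Nat.card ↥N = 2 ^ f * Nat.card ↥(center ↥L) := by
    have hmap : N.map π = V0.map π := by
      rw [hN, Subgroup.map_sup, sup_eq_left, (Subgroup.map_eq_bot_iff (f := π) (center ↥L)).2 hkerπ.ge]
      exact bot_le
    rw [ThreePrime72.card_eq_map_mul π N, hkerπ, inf_eq_right.2 (le_sup_right : _ ≤ N), hmap,
      ← hq]
    exact congrArg (· * _) (Nat.card_congr (Equiv.subtypeEquivRight fun y => himg y))
  -- `T ⊓ L` centralizes `A`
  have hQC : ∀ x ∈ (Q : Subgroup ↥L), (x : H) ∈ centralizer (A : Set H) := by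
    by_contra hne
    -- only `N` centralizes `A`
    have hCN : ∀ x ∈ (Q : Subgroup ↥L), (x : H) ∈ centralizer (A : Set H) → x ∈ N := by
      intro x hx hxc
      by_contra hxN
      refine hne fun y hy => ?_
      by_cases hyN : y ∈ N
      · exact hNcent y hyN
      obtain ⟨tb, htb, ht2⟩ := hX.trans _ ((hQP x).1 hx) _ ((hQP y).1 hy)
        (fun h2 => hxN ((hNiff x hx).2 h2)) (fun h2 => hyN ((hNiff y hy).2 h2))
      obtain ⟨t, rfl⟩ := QuotientGroup.mk'_surjective (center ↥L) tb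
      have hr : t * x * t⁻¹ * y⁻¹ ∈ N :=
        (hNiff _ (mul_mem ((hnQ t htb x).1 hx) (inv_mem hy))).2 (by
          simpa only [map_mul, map_inv] using ht2)
      have htc : ((t * x * t⁻¹ : ↥L) : H) ∈ centralizer (A : Set H) := by
        refine mem_centralizer_iff.2 fun a ha => ?_
        have ha' := (mem_normalizer_iff.1 (inv_mem (hnA t htb)) a).1 ha
        have h1 := mem_centralizer_iff.1 hxc _ ha'
        simp only [Subgroup.coe_mul, InvMemClass.coe_inv]
        calc a * ((t : H) * x * (t : H)⁻¹)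
            = (t : H) * ((t : H)⁻¹ * a * (t : H)⁻¹⁻¹ * x) * (t : H)⁻¹ := by group
          _ = (t : H) * (x * ((t : H)⁻¹ * a * (t : H)⁻¹⁻¹)) * (t : H)⁻¹ := by rw [h1]
          _ = _ := by group
      have : (y : H) = ((t * x * t⁻¹ * y⁻¹ : ↥L) : H)⁻¹ * ((t * x * t⁻¹ : ↥L) : H) := by
        simp only [Subgroup.coe_mul, InvMemClass.coe_inv]
        group
      rw [this]
      exact mul_mem (inv_mem (hNcent _ hr)) htc
    set E : Subgroup H := (Q : Subgroup ↥L).map L.subtype with hE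
    have hEA : A ⊓ centralizer (E : Set H) = A ⊓ centralizer (L : Set H) := by
      refine le_antisymm ?_ (inf_le_inf_left A (centralizer_le (by
        rintro _ ⟨x, -, rfl⟩; exact x.2)))
      rintro a ⟨ha, hac⟩
      obtain ⟨v, hv, r, hr, rfl⟩ := hdec a ha
      rcases eq_or_ne v 1 with rfl | hv1
      · rw [one_mul]; exact hr
      exfalso
      set v0 : ↥L := ⟨v, (hVle hv).2⟩ with hv0
      have hvc : ∀ x ∈ (Q : Subgroup ↥L), x * v0 = v0 * x := fun x hx => Subtype.ext (by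
        show (x : H) * v = v * x
        have h1 := mem_centralizer_iff.1 hac x ⟨x, hx, rfl⟩
        have h2 := mem_centralizer_iff.1 hr.2 (x : H) x.2
        rw [← mul_assoc, mul_assoc v r, ← h2, ← mul_assoc] at h1
        exact mul_right_cancel h1)
      have hπne : ∀ w : ↥L, w ∈ V0 → w ≠ 1 → π w ≠ 1 := fun w hw hw1 he => hw1 (by
        have h1 : w ∈ V0 ⊓ center ↥L := ⟨hw, (hker w).1 he⟩
        rwa [hVZ, mem_bot] at h1)
      refine hne fun x hx => hcentA x fun w hw => ?_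
      set w0 : ↥L := ⟨w, (hVle hw).2⟩ with hw0
      rcases eq_or_ne w 1 with rfl | hw1
      · rw [one_mul, mul_one]
      have hw' := (himg (π w0)).1 ⟨w0, hw, rfl⟩
      have hv' := (himg (π v0)).1 ⟨v0, hv, rfl⟩
      obtain ⟨tb, htb, he⟩ := hSyl.trans P (π v0) (π w0) hv'.1 hw'.1
        (hπne v0 hv fun e => hv1 (congrArg Subtype.val e))
        (hπne w0 hw fun e => hw1 (congrArg Subtype.val e)) hv'.2 hw'.2
      obtain ⟨t, rfl⟩ := QuotientGroup.mk'_surjective (center ↥L) tb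
      have hz : w0⁻¹ * (t * v0 * t⁻¹) ∈ center ↥L := (hker _).1 (by
        simp only [map_mul, map_inv]; rw [he, inv_mul_cancel])
      have hx' : t⁻¹ * x * t ∈ (Q : Subgroup ↥L) := (hnQ t htb _).2 (by
        rwa [show t * (t⁻¹ * x * t) * t⁻¹ = x by group])
      have h1 : x * (t * v0 * t⁻¹) = t * v0 * t⁻¹ * x := by
        calc x * (t * v0 * t⁻¹) = t * (t⁻¹ * x * t * v0) * t⁻¹ := by group
          _ = t * (v0 * (t⁻¹ * x * t)) * t⁻¹ := by rw [hvc _ hx']
          _ = _ := by group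
      have h2 : x * w0 = w0 * x := by
        have h3 := mem_center_iff.1 hz x
        calc x * w0 = x * (t * v0 * t⁻¹) * (w0⁻¹ * (t * v0 * t⁻¹))⁻¹ := by group
          _ = t * v0 * t⁻¹ * (x * (w0⁻¹ * (t * v0 * t⁻¹))⁻¹) := by rw [h1, mul_assoc]
          _ = t * v0 * t⁻¹ * ((w0⁻¹ * (t * v0 * t⁻¹))⁻¹ * x) := by
              rw [mem_center_iff.1 (inv_mem hz) x]
          _ = _ := by group
      exact (congrArg Subtype.val h2).symm
    have hlt := hF E (by rintro _ ⟨x, hx, rfl⟩; exact hQA x hx) (by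
      rintro _ ⟨x, hx, rfl⟩
      exact hNcent (x * x) ((hNiff _ (mul_mem hx hx)).2 (by
        rw [map_mul]; exact hX.sq _ ((hQP x).1 hx))))
      (fun hle => hne fun x hx => hle ⟨x, hx, rfl⟩)
    have c1 : Nat.card ↥E = (2 ^ f) ^ 2 * Nat.card ↥(center ↥L) := by
      rw [hE, card_map_of_injective L.subtype_injective, hcardQ]
    have c2 : Nat.card ↥(E ⊓ centralizer (A : Set H)) = 2 ^ f * Nat.card ↥(center ↥L) := by
      rw [← hcardN, ← card_map_of_injective (K := N) L.subtype_injective]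
      refine congrArg (fun S : Subgroup H => Nat.card ↥S) ?_
      ext z
      constructor
      · rintro ⟨⟨x, hx, rfl⟩, hz⟩
        exact ⟨x, hCN x hx hz, rfl⟩
      · rintro ⟨x, hx, rfl⟩
        exact ⟨⟨x, sup_le hV0Q hZQ hx, rfl⟩, hNcent x hx⟩
    have c3 : Nat.card ↥A = 2 ^ f * Nat.card ↥(A ⊓ centralizer (L : Set H)) := by
      rw [← hcardV, ← Nat.card_prod]
      refine (Nat.card_congr (Equiv.ofBijective
        (fun p : ↥V × ↥(A ⊓ centralizer (L : Set H)) =>
          (⟨(p.1 : H) * p.2, mul_mem (hVle p.1.2).1 p.2.2.1⟩ : ↥A))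
        ⟨fun p q he => ?_, fun a => ?_⟩)).symm
      · have he' : (p.1 : H) * p.2 = q.1 * q.2 := congrArg Subtype.val he
        have h1 : (q.1 : H)⁻¹ * p.1 = q.2 * (p.2 : H)⁻¹ := by
          rw [eq_mul_inv_iff_mul_eq, mul_assoc, he']; group
        have h2 : (q.1 : H)⁻¹ * p.1 ∈ V ⊓ centralizer (L : Set H) :=
          mem_inf.2 ⟨mul_mem (inv_mem q.1.2) p.1.2, by
            rw [h1]; exact mul_mem q.2.2.2 (inv_mem p.2.2.2)⟩
        rw [hVC, mem_bot, inv_mul_eq_one] at h2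
        rw [h2] at he'
        exact Prod.ext (Subtype.ext h2.symm) (Subtype.ext (mul_left_cancel he'))
      · obtain ⟨v, hv, r, hr, hvr⟩ := hdec a a.2
        exact ⟨(⟨v, hv⟩, ⟨r, hr⟩), Subtype.ext hvr⟩
    rw [hEA, c1, c2, c3] at hlt
    exact absurd hlt (not_lt.2 (le_of_eq (by ring)))
  refine ⟨?_, fun p hp hpT => hQC ⟨p, hp⟩ ((hmemQ _).2 hpT)⟩
  haveI := hK.2.1
  have hV0c : ∀ v ∈ V0, ∀ e ∈ (Q : Subgroup ↥L), e * v = v * e := fun v hv e he =>
    Subtype.ext (mem_centralizer_iff.1 (hQC e he) v (hVle hv).1).symm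
  refine center_eq_bot_of_split Group.IsPerfect.commutator_eq_top Q V0 hZQ hV0Q
    hV0c hVZ ?_ ?_ ?_ ?_
  · exact fun x hx => (hNiff _ (mul_mem hx hx)).2 (by
      rw [map_mul]; exact hX.sq _ ((hQP x).1 hx))
  · exact fun x hx y hy => (hNiff _ (mul_mem (mul_mem (mul_mem hx hy) (inv_mem hx))
      (inv_mem hy))).2 (by
      simp only [map_mul, map_inv]; exact hX.comm _ ((hQP x).1 hx) _ ((hQP y).1 hy))
  · intro x hx y hy hxN hyN
    obtain ⟨tb, htb, ht2⟩ := hX.trans _ ((hQP x).1 hx) _ ((hQP y).1 hy)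
      (fun h2 => hxN ((hNiff x hx).2 h2)) (fun h2 => hyN ((hNiff y hy).2 h2))
    obtain ⟨t, rfl⟩ := QuotientGroup.mk'_surjective (center ↥L) tb
    refine ⟨t, ?_, (hNiff _ (mul_mem ((hnQ t htb x).1 hx) (inv_mem hy))).2 (by
      simpa only [map_mul, map_inv] using ht2)⟩
    -- `t` differs from a power of the torus by an element of `T ⊓ L`
    set h0 : ↥L := ⟨hl, hhL⟩ with hh0
    have hh0V : ∀ (j : ℕ) (v : ↥L), v ∈ V0 → h0 ^ j * v * (h0 ^ j)⁻¹ ∈ V0 := fun j v hv =>
      mem_subgroupOf.2 ((mem_normalizer_iff.1 (pow_mem hhV j) (v : H)).1 hv)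
    obtain ⟨v, hv, hv1⟩ : ∃ v ∈ V0, π v ≠ 1 := by
      by_contra hall
      push Not at hall
      have h1 : V0 ≤ V0 ⊓ center ↥L := fun v hv => ⟨hv, (hker v).1 (hall v hv)⟩
      rw [hVZ] at h1
      have h2 : Nat.card ↥V = 1 := by
        rw [← Nat.card_congr (subgroupOfEquivOfLe (hVle.trans inf_le_right)).toEquiv, ← hV0,
          le_bot_iff.1 h1, card_bot]
      rw [hcardV] at h2
      exact absurd h2 (Nat.one_lt_two_pow (by omega)).ne'
    have hv' := (himg (π v)).1 ⟨v, hv, rfl⟩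
    have hconj2 : ∀ g : ↥L ⧸ center ↥L, g * π v * g⁻¹ * (g * π v * g⁻¹) = 1 := fun g => by
      calc _ = g * (π v * π v) * g⁻¹ := by group
        _ = 1 := by rw [hv'.2, mul_one, mul_inv_cancel]
    obtain ⟨w, hw, hwe⟩ := (himg (π t * π v * (π t)⁻¹)).2
      ⟨(mem_normalizer_iff.1 htb _).1 hv'.1, hconj2 _⟩
    have hvne : (v : H) ≠ 1 := fun e => hv1 (by rw [show v = 1 from Subtype.ext e, map_one])
    have hwne : (w : H) ≠ 1 := fun e => hv1 (by
      rw [show w = 1 from Subtype.ext e, map_one] at hwe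
      exact (conj_eq_one_iff).1 hwe.symm)
    obtain ⟨j, hj⟩ := hVtrans (v : H) hv (w : H) hw hvne hwne
    have hj' : h0 ^ j * v * (h0 ^ j)⁻¹ = w := Subtype.ext (by
      simpa only [Subgroup.coe_mul, InvMemClass.coe_inv, SubgroupClass.coe_pow] using hj)
    set e := (h0 ^ j)⁻¹ * t with he
    have heQ : e ∈ (Q : Subgroup ↥L) := by
      refine (hQP e).2 (hX.cent _ hv'.1 hv1 hv'.2 _ ?_)
      have h1 : π t * π v * (π t)⁻¹ = π (h0 ^ j) * π v * (π (h0 ^ j))⁻¹ := by
        rw [← hwe, ← hj', map_mul, map_mul, map_inv]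
      rw [he, map_mul, map_inv]
      calc (π (h0 ^ j))⁻¹ * π t * π v
          = (π (h0 ^ j))⁻¹ * (π t * π v * (π t)⁻¹) * π t := by group
        _ = _ := by rw [h1]; group
    intro u hu
    rw [show t * u * t⁻¹ = h0 ^ j * (e * u * e⁻¹) * (h0 ^ j)⁻¹ by rw [he]; group,
      hV0c u hu e heQ, mul_inv_cancel_right]
    exact hh0V j u hu
  · rw [hcardN, hcardQ, pow_two, ← mul_assoc]
    refine Nat.mul_le_mul_right _ (Nat.mul_le_mul_right _ ?_)
    calc 8 = 2 ^ 3 := by norm_num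
      _ ≤ 2 ^ f := Nat.pow_le_pow_right (by norm_num) hf3

end Cfsg.Agent.ThreePrime91
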